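import Mathlib.GroupTheory.Sylow
import Cfsg.Prelude.Def_TwoFusion
import Cfsg.Agent.S2791

/-!
# Every 2-element 2-central implies abelian Sylow 2-subgroups

An elementary proof: the involutions of a Sylow 2-subgroup `S` commute, so they form a strongly
closed abelian subgroup `A`; either `A` is normal and one passes to `G/A`, or one passes to `N(A)`.
-/

set_option autoImplicit false

namespace Cfsg.Agent.TwoCentral

open Subgroup

universe u

/-- every element of `S` is conjugate into the centre of `S` -/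
def ConjIntoCenter {G : Type*} [Group G] (S : Sylow 2 G) : Prop :=
  ∀ x ∈ (S : Subgroup G), ∃ g : G,
    g * x * g⁻¹ ∈ (S : Subgroup G) ∧ g * x * g⁻¹ ∈ centralizer (S : Set G)

/-- a 2-element normalising a Sylow 2-subgroup lies in it -/
theorem mem_of_mem_normalizer {G : Type*} [Group G] [Finite G] (S : Sylow 2 G) {n : G}
    (hn : n ∈ normalizer (S : Set G)) (hp : ∃ k : ℕ, orderOf n = 2 ^ k) :
    n ∈ (S : Subgroup G) := by
  obtain ⟨k, hk⟩ := hp
  have hz : IsPGroup 2 ↥(zpowers n) :=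
    IsPGroup.of_card (n := k) (by rw [Nat.card_zpowers, hk])
  have hsup : IsPGroup 2 ↥(zpowers n ⊔ (S : Subgroup G)) :=
    hz.to_sup_of_normal_right' S.2 ((zpowers_le).2 hn)
  exact (S.3 hsup le_sup_right) ▸ mem_sup_left (mem_zpowers n)

/-- A 2-central element conjugate to its inverse squares to one. -/
theorem sq_eq_one_of_central_real {G : Type*} [Group G] [Finite G] (S : Sylow 2 G) {z : G}
    (hz : z ∈ centralizer (S : Set G)) {g : G} (hg : g⁻¹ * z * g = z⁻¹) : z * z = 1 := by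
  obtain ⟨n, hn, he⟩ := S.conj_eq_normalizer_conj_of_mem_centralizer z g hz
    (by rw [hg]; exact inv_mem hz)
  rw [hg] at he
  obtain ⟨k, m, hm, hkm⟩ := Nat.exists_eq_two_pow_mul_odd (orderOf_pos n).ne'
  have hodd : ∀ i : ℕ, (n ^ (2 * i + 1))⁻¹ * z * n ^ (2 * i + 1) = z⁻¹ := by
    intro i
    induction i with
    | zero => simpa using he.symm
    | succ i ih =>
      have h2 : n⁻¹ * z⁻¹ * n = z := by
        have := congrArg Inv.inv he.symm
        simpa [mul_assoc] using this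
      calc (n ^ (2 * (i + 1) + 1))⁻¹ * z * n ^ (2 * (i + 1) + 1)
          = n⁻¹ * (n⁻¹ * ((n ^ (2 * i + 1))⁻¹ * z * n ^ (2 * i + 1)) * n) * n := by
            rw [show 2 * (i + 1) + 1 = (2 * i + 1) + 1 + 1 by ring, pow_succ, pow_succ]
            group
        _ = z⁻¹ := by rw [ih, h2, ← he]
  obtain ⟨i, rfl⟩ := hm
  have h1 : n ^ (2 * i + 1) ∈ (S : Subgroup G) := by
    refine mem_of_mem_normalizer S (pow_mem hn _) ⟨k, ?_⟩
    rw [orderOf_pow' _ (by omega), hkm, Nat.gcd_mul_left_left, Nat.mul_div_cancel _ (by omega)]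
  have hc := mem_centralizer_iff.1 hz _ h1
  have h3 := hodd i
  rw [mul_assoc, ← hc, inv_mul_cancel_left] at h3
  exact eq_inv_iff_mul_eq_one.1 h3

variable {G : Type*} [Group G] [Finite G]

theorem sq_eq_one_of_real {S : Sylow 2 G} (h : ConjIntoCenter S) {x g : G}
    (hx : x ∈ (S : Subgroup G)) (hg : g * x * g⁻¹ = x⁻¹) : x * x = 1 := by
  obtain ⟨c, -, hc⟩ := h x hx
  have h1 : (c * g⁻¹ * c⁻¹)⁻¹ * (c * x * c⁻¹) * (c * g⁻¹ * c⁻¹) = (c * x * c⁻¹)⁻¹ := by
    calc (c * g⁻¹ * c⁻¹)⁻¹ * (c * x * c⁻¹) * (c * g⁻¹ * c⁻¹)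
        = c * (g * x * g⁻¹) * c⁻¹ := by group
      _ = c * x⁻¹ * c⁻¹ := by rw [hg]
      _ = (c * x * c⁻¹)⁻¹ := by group
  have h2 := sq_eq_one_of_central_real S hc h1
  calc x * x = c⁻¹ * ((c * x * c⁻¹) * (c * x * c⁻¹)) * c := by group
    _ = 1 := by rw [h2]; group

theorem comm_of_involutions {S : Sylow 2 G} (h : ConjIntoCenter S) {a b : G}
    (ha : a ∈ (S : Subgroup G)) (hb : b ∈ (S : Subgroup G)) (ha2 : a * a = 1) (hb2 : b * b = 1) :
    a * b = b * a := by
  have ha' : a⁻¹ = a := inv_eq_of_mul_eq_one_right ha2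
  have hb' : b⁻¹ = b := inv_eq_of_mul_eq_one_right hb2
  have h1 : a * (a * b) * a⁻¹ = (a * b)⁻¹ := by
    rw [mul_inv_rev, hb', ha', ← mul_assoc a a b, ha2, one_mul]
  have h2 := eq_inv_of_mul_eq_one_left (sq_eq_one_of_real h (mul_mem ha hb) h1)
  rw [mul_inv_rev, hb', ha'] at h2
  exact h2

/-- The involutions of `S` together with `1`. -/
def omegaOne {S : Sylow 2 G} (h : ConjIntoCenter S) : Subgroup G where
  carrier := {x | x ∈ (S : Subgroup G) ∧ x * x = 1}
  one_mem' := ⟨one_mem _, one_mul 1⟩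
  mul_mem' := fun {a b} ha hb => ⟨mul_mem ha.1 hb.1, by
    have := comm_of_involutions h ha.1 hb.1 ha.2 hb.2
    calc a * b * (a * b) = a * (b * a) * b := by group
      _ = a * (a * b) * b := by rw [this]
      _ = (a * a) * (b * b) := by group
      _ = 1 := by rw [ha.2, hb.2, one_mul]⟩
  inv_mem' := fun {a} ha => ⟨inv_mem ha.1, by rw [← mul_inv_rev, ha.2, inv_one]⟩

theorem omegaOne_comm {S : Sylow 2 G} (h : ConjIntoCenter S) :
    IsMulCommutative ↥(omegaOne h) :=
  ⟨⟨fun a b => Subtype.ext (comm_of_involutions h a.2.1 b.2.1 a.2.2 b.2.2)⟩⟩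

theorem omegaOne_stronglyClosed {S : Sylow 2 G} (h : ConjIntoCenter S) :
    Cfsg.IsStronglyClosed (omegaOne h) (S : Subgroup G) := by
  refine ⟨fun x hx => hx.1, fun x hx g hg => ⟨hg, ?_⟩⟩
  calc g * x * g⁻¹ * (g * x * g⁻¹) = g * (x * x) * g⁻¹ := by group
    _ = 1 := by rw [hx.2]; group

theorem omegaOne_ne_bot {S : Sylow 2 G} (h : ConjIntoCenter S) (hS : (S : Subgroup G) ≠ ⊥) :
    omegaOne h ≠ ⊥ := by
  obtain ⟨k, hk⟩ := IsPGroup.iff_card.1 S.2
  have hk0 : k ≠ 0 := by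
    intro h0
    subst h0
    exact hS (Subgroup.card_eq_one.1 (by simpa using hk))
  obtain ⟨x, hx⟩ := exists_prime_orderOf_dvd_card' (G := ↥(S : Subgroup G)) 2
    (by rw [hk]; exact dvd_pow_self 2 hk0)
  intro hbot
  have hmem : (x : G) ∈ omegaOne h := ⟨x.2, by
    have := pow_orderOf_eq_one x
    rw [hx, pow_two] at this
    exact congrArg Subtype.val this⟩
  rw [hbot, mem_bot] at hmem
  have h1 : x = 1 := Subtype.ext hmem
  rw [h1, orderOf_one] at hx
  omega

/-- If every element of a Sylow 2-subgroup `S` is conjugate into the centre of `S`,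
then `S` is abelian. -/
theorem commute_of_conjIntoCenter : ∀ (N : ℕ) (G : Type u) [Group G] [Finite G],
    Nat.card G = N → ∀ S : Sylow 2 G, ConjIntoCenter S →
      ∀ x ∈ (S : Subgroup G), x ∈ centralizer (S : Set G) := by
  intro N
  induction N using Nat.strong_induction_on with
  | _ N ih =>
  intro G _ _ hN S h x hx
  by_cases hS : (S : Subgroup G) = ⊥
  · rw [hS, mem_bot] at hx
    subst hx
    exact one_mem _
  set A := omegaOne h with hAdef
  have hsc : Cfsg.IsStronglyClosed A (S : Subgroup G) := omegaOne_stronglyClosed h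
  have hAS : A ≤ (S : Subgroup G) := hsc.1
  have hSA : (S : Subgroup G) ≤ normalizer (A : Set G) := by
    intro s hs
    rw [mem_normalizer_iff]
    refine fun a => ⟨fun ha => hsc.2 a ha s (mul_mem (mul_mem hs (hAS ha)) (inv_mem hs)),
      fun ha => ?_⟩
    have h1 := hsc.2 _ ha s⁻¹ (mul_mem (mul_mem (inv_mem hs) (hAS ha)) (inv_mem (inv_mem hs)))
    simpa [mul_assoc] using h1
  by_cases htop : normalizer (A : Set G) = ⊤
  · haveI hAn : A.Normal := normalizer_eq_top_iff.1 htop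
    have hAc : ∀ a ∈ A, a ∈ centralizer (S : Set G) := by
      intro a ha
      rw [mem_centralizer_iff]
      intro s hs
      obtain ⟨c, -, hc⟩ := h s hs
      have h1 := mem_centralizer_iff.1 hc (c * a * c⁻¹) (hAS (hAn.conj_mem a ha c))
      calc s * a = c⁻¹ * ((c * s * c⁻¹) * (c * a * c⁻¹)) * c := by group
        _ = c⁻¹ * ((c * a * c⁻¹) * (c * s * c⁻¹)) * c := by rw [h1]
        _ = a * s := by group
    have hlt : Nat.card (G ⧸ A) < N := by
      have h2 := A.card_eq_card_quotient_mul_card_subgroup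
      have h3 : 1 < Nat.card ↥A :=
        (one_lt_card_iff_ne_bot A).2 (omegaOne_ne_bot h hS)
      have h4 : 0 < Nat.card (G ⧸ A) := Nat.card_pos
      rw [← hN, h2]
      exact lt_mul_of_one_lt_right h4 h3
    let π : G →* G ⧸ A := QuotientGroup.mk' A
    let T : Sylow 2 (G ⧸ A) := S.mapSurjective (f := π) (QuotientGroup.mk'_surjective A)
    have hTmem : ∀ {y : G ⧸ A}, y ∈ (T : Subgroup (G ⧸ A)) ↔ ∃ s ∈ (S : Subgroup G), π s = y :=
      Iff.rfl
    have hT : ConjIntoCenter T := by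
      intro y hy
      obtain ⟨s, hs, rfl⟩ := hTmem.1 hy
      obtain ⟨c, hc1, hc2⟩ := h s hs
      refine ⟨π c, hTmem.2 ⟨_, hc1, by simp⟩, mem_centralizer_iff.2 fun t ht => ?_⟩
      obtain ⟨t, ht', rfl⟩ := hTmem.1 ht
      simpa using congrArg π (mem_centralizer_iff.1 hc2 t ht')
    have hTc := ih _ hlt (G ⧸ A) rfl T hT
    obtain ⟨c, hc1, hc2⟩ := h x hx
    have hx' : π x ∈ centralizer (T : Set (G ⧸ A)) := hTc _ (hTmem.2 ⟨x, hx, rfl⟩)
    have hz' : π (c * x * c⁻¹) ∈ centralizer (T : Set (G ⧸ A)) :=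
      hTc _ (hTmem.2 ⟨_, hc1, rfl⟩)
    have heq : (π c)⁻¹⁻¹ * π x * (π c)⁻¹ = π (c * x * c⁻¹) := by simp
    obtain ⟨m, hm, he⟩ := T.conj_eq_normalizer_conj_of_mem_centralizer (π x) (π c)⁻¹ hx'
      (by rw [heq]; exact hz')
    rw [heq] at he
    obtain ⟨n, rfl⟩ := QuotientGroup.mk'_surjective A m
    have hback : ∀ {y : G}, π y ∈ (T : Subgroup (G ⧸ A)) → y ∈ (S : Subgroup G) := by
      intro y hy
      obtain ⟨s, hs, hsy⟩ := hTmem.1 hy
      have h5 : s⁻¹ * y ∈ A := QuotientGroup.eq.1 hsy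
      simpa using mul_mem hs (hAS h5)
    have hnS : ∀ s ∈ (S : Subgroup G), n⁻¹ * s * n ∈ (S : Subgroup G) := by
      intro s hs
      refine hback ?_
      rw [map_mul, map_mul, map_inv]
      exact (mem_normalizer_iff''.1 hm (π s)).1 (hTmem.2 ⟨s, hs, rfl⟩)
    have h6 : (n * (c * x * c⁻¹) * n⁻¹)⁻¹ * x ∈ A := by
      refine QuotientGroup.eq.1 ?_
      show π (n * (c * x * c⁻¹) * n⁻¹) = π x
      have he' : π (c * x * c⁻¹) = (π n)⁻¹ * π x * π n := he
      rw [map_mul, map_mul, map_inv, he']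
      group
    have hw : n * (c * x * c⁻¹) * n⁻¹ ∈ centralizer (S : Set G) := by
      rw [mem_centralizer_iff]
      intro s hs
      have h7 := mem_centralizer_iff.1 hc2 _ (hnS s hs)
      calc s * (n * (c * x * c⁻¹) * n⁻¹)
          = n * ((n⁻¹ * s * n) * (c * x * c⁻¹)) * n⁻¹ := by group
        _ = n * ((c * x * c⁻¹) * (n⁻¹ * s * n)) * n⁻¹ := by rw [h7]
        _ = n * (c * x * c⁻¹) * n⁻¹ * s := by group
    have h8 := mul_mem hw (hAc _ h6)
    rwa [mul_inv_cancel_left] at h8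
  · have hlt : Nat.card ↥(normalizer (A : Set G)) < N := by
      rw [← hN]
      refine lt_of_le_of_ne (Subgroup.card_le_card_group _) fun he => htop ?_
      exact Subgroup.eq_top_of_card_eq _ he
    let S' : Sylow 2 ↥(normalizer (A : Set G)) := S.subtype hSA
    have hS' : ConjIntoCenter S' := by
      intro y hy
      obtain ⟨c, hc1, hc2⟩ := h (y : G) hy
      obtain ⟨w, hw, hwe⟩ := Cfsg.Agent.Transfer.exists_conj_eq_of_tame S (normalizer (A : Set G))
        (fun D hD z hz => Cfsg.Agent.S2791.key S A (omegaOne_comm h) hsc _ D rfl hD z hz)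
        ({(y : G)} : Set G) c⁻¹ (by intro a ha; rw [Set.mem_singleton_iff] at ha; subst ha; exact hy)
        (by intro a ha; rw [Set.mem_singleton_iff] at ha; subst ha; rw [inv_inv]; exact hc1)
      have hwy : w⁻¹ * (y : G) * w = c * (y : G) * c⁻¹ := by
        simpa using hwe (y : G) rfl
      refine ⟨⟨w, hw⟩⁻¹, ?_, ?_⟩
      · show w⁻¹ * (y : G) * w⁻¹⁻¹ ∈ (S : Subgroup G)
        rw [inv_inv, hwy]
        exact hc1
      · rw [mem_centralizer_iff]
        intro t ht
        refine Subtype.ext ?_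
        show (t : G) * (w⁻¹ * (y : G) * w⁻¹⁻¹) = w⁻¹ * (y : G) * w⁻¹⁻¹ * (t : G)
        rw [inv_inv, hwy]
        exact mem_centralizer_iff.1 hc2 _ ht
    have hc := ih _ hlt ↥(normalizer (A : Set G)) rfl S' hS' ⟨x, hSA hx⟩ hx
    rw [mem_centralizer_iff]
    intro s hs
    exact congrArg Subtype.val (mem_centralizer_iff.1 hc ⟨s, hSA hs⟩ hs)

/-- If every 2-element centralises a Sylow 2-subgroup, the Sylow 2-subgroups are abelian. -/
theorem isMulCommutative_of_two_central (G : Type u) [Group G] [Finite G]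
    (h : ∀ x : G, (∃ k : ℕ, orderOf x = 2 ^ k) →
      ∃ Q : Sylow 2 G, (Q : Subgroup G) ≤ centralizer ({x} : Set G))
    (P : Sylow 2 G) : IsMulCommutative ↥(P : Subgroup G) := by
  have hP : ConjIntoCenter P := by
    intro x hx
    have h2 : ∃ k : ℕ, orderOf x = 2 ^ k := by
      obtain ⟨k, hk⟩ := IsPGroup.iff_orderOf.1 P.2 ⟨x, hx⟩
      exact ⟨k, by rwa [← Subgroup.orderOf_coe] at hk⟩
    obtain ⟨Q, hQ⟩ := h x h2
    have hcomm : ∀ q ∈ (Q : Subgroup G), x * q = q * x :=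
      fun q hq => mem_centralizer_iff.1 (hQ hq) x rfl
    have hxQ : x ∈ (Q : Subgroup G) := by
      refine mem_of_mem_normalizer Q ?_ h2
      show x ∈ normalizer ((Q : Subgroup G) : Set G)
      rw [mem_normalizer_iff]
      intro q
      refine ⟨fun hq => ?_, fun hq => ?_⟩
      · rwa [hcomm q hq, mul_inv_cancel_right]
      · have h1 := hcomm _ hq
        have h3 : x * q * x⁻¹ = q := by
          calc x * q * x⁻¹ = x⁻¹ * (x * (x * q * x⁻¹)) := by group
            _ = x⁻¹ * ((x * q * x⁻¹) * x) := by rw [h1]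
            _ = q := by group
        rwa [h3] at hq
    obtain ⟨c, hc⟩ := MulAction.exists_smul_eq G Q P
    have hPQ : (P : Subgroup G) = (Q : Subgroup G).map (MulAut.conj c).toMonoidHom := by
      rw [← hc]; rfl
    refine ⟨c, ?_, ?_⟩
    · rw [hPQ]
      exact ⟨x, hxQ, rfl⟩
    · rw [mem_centralizer_iff]
      intro p hp
      have hp' : p ∈ (Q : Subgroup G).map (MulAut.conj c).toMonoidHom := hPQ ▸ hp
      obtain ⟨q, hq, rfl⟩ := Subgroup.mem_map.1 hp'
      show c * q * c⁻¹ * (c * x * c⁻¹) = c * x * c⁻¹ * (c * q * c⁻¹)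
      calc c * q * c⁻¹ * (c * x * c⁻¹) = c * (q * x) * c⁻¹ := by group
        _ = c * (x * q) * c⁻¹ := by rw [hcomm q hq]
        _ = c * x * c⁻¹ * (c * q * c⁻¹) := by group
  exact ⟨⟨fun a b => Subtype.ext
    (mem_centralizer_iff.1 (commute_of_conjIntoCenter _ G rfl P hP b.1 b.2) a.1 a.2)⟩⟩

end Cfsg.Agent.TwoCentral
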